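import Groth.Agent.Lib.HTop26.ValLift
import Mathlib.AlgebraicGeometry.AffineTransitionLimit
import Mathlib.CategoryTheory.Limits.Constructions.Over.Connected
import Mathlib.CategoryTheory.Filtered.Connected
import Mathlib.RingTheory.Ideal.Maximal

/-!
# Standard V coverings and limits of affine schemes
-/

open CategoryTheory CategoryTheory.Limits AlgebraicGeometry Opposite IsLocalRing

universe w u

namespace Groth.Agent.HTop28

set_option linter.style.haveILetI false

/-- The algebraic criterion for an algebra over a valuation ring to dominate it. -/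
def Good {V B : Type u} [CommRing V] [IsLocalRing V] [CommRing B] (ρ : V →+* B) : Prop :=
  ∀ v m : V, v ≠ 0 → m ∈ maximalIdeal V → ∀ b : B, ρ v * (1 - ρ m * b) ≠ 0

lemma good_of_comp {V B B' : Type u} [CommRing V] [IsLocalRing V] [CommRing B] [CommRing B']
    {ρ : V →+* B} (π : B →+* B') (h : Good (π.comp ρ)) : Good ρ := fun v m hv hm b he => by
  refine h v m hv hm (π b) ?_
  simpa using congrArg π he

lemma good_of_ext {V W B : CommRingCat.{u}} [IsDomain V] [ValuationRing V] [IsDomain W] [ValuationRing W]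
    {φ : V ⟶ W} (hφ : HTop.IsExtVal V W φ) {ρ : V ⟶ B} (ψ : B ⟶ W) (h : ρ ≫ ψ = φ) : Good ρ.hom := by
  refine good_of_comp ψ.hom ?_
  rw [← CommRingCat.hom_comp, h]
  intro v m hv hm b he
  rcases mul_eq_zero.1 he with h' | h'
  · exact hv (hφ.1 (h'.trans (map_zero _).symm))
  · haveI := hφ.2
    refine (IsLocalRing.mem_maximalIdeal (φ.hom m)).1 ?_ (IsUnit.of_mul_eq_one b (sub_eq_zero.1 h').symm)
    exact map_nonunit φ.hom m hm

lemma exists_primes_of_good {V B : Type u} [CommRing V] [IsDomain V] [ValuationRing V] [CommRing B]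
    {ρ : V →+* B} (h : Good ρ) : ∃ q q' : Ideal B, q.IsPrime ∧ q'.IsPrime ∧ q ≤ q' ∧
      q.comap ρ = ⊥ ∧ q'.comap ρ = maximalIdeal V := by
  let T : Ideal B :=
    { carrier := {b | ∃ v ≠ 0, ρ v * b = 0}
      zero_mem' := ⟨1, one_ne_zero, mul_zero _⟩
      add_mem' := by
        rintro a b ⟨v, hv, ha⟩ ⟨w, hw, hb⟩
        refine ⟨v * w, mul_ne_zero hv hw, ?_⟩
        rw [map_mul]
        linear_combination (ρ w) * ha + (ρ v) * hb
      smul_mem' := by
        rintro c a ⟨v, hv, ha⟩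
        refine ⟨v, hv, ?_⟩
        rw [smul_eq_mul]
        linear_combination c * ha }
  let J : Ideal B :=
    { carrier := {x | ∃ m ∈ maximalIdeal V, ∃ b : B, x = ρ m * b}
      zero_mem' := ⟨0, zero_mem _, 0, by simp⟩
      add_mem' := by
        rintro x y ⟨m, hm, b, rfl⟩ ⟨n, hn, c, rfl⟩
        rcases ValuationRing.dvd_total m n with ⟨t, rfl⟩ | ⟨t, rfl⟩
        · exact ⟨m, hm, b + ρ t * c, by rw [map_mul]; ring⟩
        · exact ⟨n, hn, ρ t * b + c, by rw [map_mul]; ring⟩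
      smul_mem' := by
        rintro c x ⟨m, hm, b, rfl⟩
        exact ⟨m, hm, c * b, by rw [smul_eq_mul]; ring⟩ }
  have hne : T ⊔ J ≠ ⊤ := by
    rw [Ideal.ne_top_iff_one, Submodule.mem_sup]
    rintro ⟨t, ⟨v, hv, hvt⟩, x, ⟨m, hm, b, rfl⟩, h1⟩
    exact h v m hv hm b (by rw [← hvt, ← h1]; ring)
  obtain ⟨q', hq', hle⟩ := Ideal.exists_le_maximal _ hne
  let S : Submonoid B :=
    { carrier := {x | ∃ (v : V) (s : B), v ≠ 0 ∧ s ∉ q' ∧ x = ρ v * s}
      one_mem' := ⟨1, 1, one_ne_zero, hq'.ne_top ∘ (Ideal.eq_top_iff_one _).2, by simp⟩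
      mul_mem' := by
        rintro x y ⟨v, s, hv, hs, rfl⟩ ⟨w, t, hw, ht, rfl⟩
        exact ⟨v * w, s * t, mul_ne_zero hv hw, fun hst => (hq'.isPrime.mem_or_mem hst).elim hs ht,
          by rw [map_mul]; ring⟩ }
  have hdisj : Disjoint ((⊥ : Ideal B) : Set B) S := by
    rw [Set.disjoint_left]
    rintro x hx ⟨v, s, hv, hs, rfl⟩
    exact hs (hle (Submodule.mem_sup_left ⟨v, hv, hx⟩))
  obtain ⟨q, hq, -, hqd⟩ := Ideal.exists_le_prime_disjoint ⊥ S hdisj
  refine ⟨q, q', hq, hq'.isPrime, fun x hx => ?_, ?_, ?_⟩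
  · by_contra hx'
    exact Set.disjoint_left.1 hqd hx ⟨1, x, one_ne_zero, hx', by simp⟩
  · refine eq_bot_iff.2 fun v hv => ?_
    by_contra hv'
    exact Set.disjoint_left.1 hqd hv ⟨v, 1, hv', hq'.ne_top ∘ (Ideal.eq_top_iff_one _).2, by simp⟩
  · refine (Ideal.IsMaximal.eq_of_le inferInstance (Ideal.IsPrime.comap ρ).ne_top fun m hm => ?_).symm
    exact hle (Submodule.mem_sup_right ⟨m, hm, 1, by simp⟩)

/-- The ring map of a morphism to an affine spectrum. -/
noncomputable def rhom {V : CommRingCat.{u}} {P : Scheme.{u}} (f : P ⟶ Spec V) : V ⟶ Γ(P, ⊤) :=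
  (Scheme.ΓSpecIso V).inv ≫ f.appTop

lemma map_rhom {V : CommRingCat.{u}} {P : Scheme.{u}} (f : P ⟶ Spec V) [IsAffine P] :
    P.isoSpec.inv ≫ f = Spec.map (rhom f) := by
  rw [rhom, Spec.map_comp, ← Scheme.isoSpec_inv_naturality, Scheme.isoSpec_Spec_inv]

lemma comp_rhom {V : CommRingCat.{u}} {P Q : Scheme.{u}} {f : P ⟶ Spec V} {g : Q ⟶ Spec V} {π : Q ⟶ P}
    (w : π ≫ f = g) (a : V) : π.appTop ((rhom f).hom a) = (rhom g).hom a := by
  subst w
  rfl

lemma good_iff {V : CommRingCat.{u}} [IsDomain V] [ValuationRing V] {P : Scheme.{u}} [IsAffine P]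
    (f : P ⟶ Spec V) : Good (rhom f).hom ↔
      ∃ (W : CommRingCat.{u}) (_ : IsDomain W) (_ : ValuationRing W) (φ : V ⟶ W),
        HTop.IsExtVal V W φ ∧ ∃ g' : Spec W ⟶ P, g' ≫ f = Spec.map φ := by
  constructor
  · intro h
    obtain ⟨q, q', hq, hq', hle, h0, h1⟩ := exists_primes_of_good h
    obtain ⟨W, i1, i2, φ, hφ, m, hm⟩ := HTop26.exists_ext_of_specializes (Spec.map (rhom f))
      (p₀ := (⟨q, hq⟩ : Spec Γ(P, ⊤))) (p := (⟨q', hq'⟩ : Spec Γ(P, ⊤)))
      ((PrimeSpectrum.le_iff_specializes _ _).1 hle) (PrimeSpectrum.ext h0) (PrimeSpectrum.ext h1)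
    refine ⟨W, i1, i2, φ, hφ, m ≫ P.isoSpec.inv, ?_⟩
    rw [Category.assoc, map_rhom, hm]
  · rintro ⟨W, _, _, φ, hφ, g', hg'⟩
    refine good_of_ext hφ (g'.appTop ≫ (Scheme.ΓSpecIso W).hom) ?_
    rw [rhom, Category.assoc, ← Scheme.Hom.comp_appTop_assoc, hg', Scheme.ΓSpecIso_naturality,
      Iso.inv_hom_id_assoc]

theorem good_limit {V : CommRingCat.{u}} [IsDomain V] [ValuationRing V] {I : Type u} [SmallCategory I]
    [IsCofiltered I] (E : I ⥤ Over (Spec V)) [∀ i, IsAffine (E.obj i).left] (c : Cone E)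
    (hc : IsLimit ((Over.forget _).mapCone c)) (h : ∀ i, Good (rhom (E.obj i).hom).hom) :
    Good (rhom c.pt.hom).hom := by
  haveI : ∀ i, IsAffine ((E ⋙ Over.forget _).obj i) := fun i => inferInstanceAs (IsAffine (E.obj i).left)
  intro v m hv hm b he
  obtain ⟨i, b₀, hb₀⟩ : ∃ (i : I) (b₀ : Γ((E.obj i).left, ⊤)), (c.π.app i).left.appTop b₀ = b :=
    exists_appTop_π_eq_of_isAffine_of_isLimit (E ⋙ Over.forget _) _ hc b
  have hnat : ∀ a, (c.π.app i).left.appTop ((rhom (E.obj i).hom) a) = rhom c.pt.hom a := fun a => by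
    have w : (c.π.app i).left ≫ (E.obj i).hom = c.pt.hom := Over.w (c.π.app i)
    exact comp_rhom w a
  let s₀ : Γ((E.obj i).left, ⊤) := (rhom (E.obj i).hom) v * (1 - (rhom (E.obj i).hom) m * b₀)
  obtain ⟨j, g, hj⟩ := exists_appTop_map_eq_zero_of_isAffine_of_isLimit (E ⋙ Over.forget _) _ hc i s₀ (by
      show (c.π.app i).left.appTop s₀ = 0
      simp only [s₀, map_mul, map_sub, map_one]
      rw [hnat, hnat, hb₀]
      exact he)
  refine h j v m hv hm ((E.map g).left.appTop b₀) ?_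
  have hnat' : ∀ a, (E.map g).left.appTop ((rhom (E.obj i).hom) a) = rhom (E.obj j).hom a := fun a => by
    have w : (E.map g).left ≫ (E.obj i).hom = (E.obj j).hom := Over.w (E.map g)
    exact comp_rhom w a
  change (E.map g).left.appTop s₀ = 0 at hj
  simp only [s₀, map_mul, map_sub, map_one, hnat'] at hj
  exact hj

theorem isStandardV_singleton_iff {Y : Scheme.{u}} [IsAffine Y] {I : Type u} [SmallCategory I] [IsCofiltered I]
    (D : I ⥤ Over Y) [∀ i, IsAffine (D.obj i).left] (c : Cone D)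
    (hc : IsLimit ((Over.forget Y).mapCone c)) :
    HTop.IsStandardV (PreZeroHypercover.singleton.{w} c.pt.hom) ↔
      ∀ i, HTop.IsStandardV (PreZeroHypercover.singleton.{w} (D.obj i).hom) := by
  haveI : ∀ i, IsAffine ((D ⋙ Over.forget Y).obj i) := fun i => inferInstanceAs (IsAffine (D.obj i).left)
  haveI : IsAffine c.pt.left := Scheme.isAffine_of_isLimit _ hc
  constructor
  · intro h i
    refine ⟨inferInstance, inferInstanceAs (Finite PUnit), fun _ => inferInstanceAs (IsAffine (D.obj i).left), ?_⟩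
    intro V _ _ g
    obtain ⟨W, i1, i2, φ, hφ, j, g', hg'⟩ := h.lift V g
    let g₁ : Spec W ⟶ c.pt.left := g'
    have w : (c.π.app i).left ≫ (D.obj i).hom = c.pt.hom := Over.w (c.π.app i)
    refine ⟨W, i1, i2, φ, hφ, j, g₁ ≫ (c.π.app i).left, ?_⟩
    show (g₁ ≫ (c.π.app i).left) ≫ (D.obj i).hom = Spec.map φ ≫ g
    rw [Category.assoc]
    exact (congrArg (g₁ ≫ ·) w).trans hg'
  · intro h
    refine ⟨inferInstance, inferInstanceAs (Finite PUnit), fun _ => inferInstanceAs (IsAffine c.pt.left), ?_⟩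
    intro V _ _ g
    haveI : IsConnected I := IsCofiltered.isConnected I
    have hcD : IsLimit c := isLimitOfReflects (Over.forget Y) hc
    have hP : IsLimit ((Over.forget (Spec V)).mapCone ((Over.pullback g).mapCone c)) :=
      isLimitOfPreserves _ (isLimitOfPreserves (Over.pullback g) hcD)
    haveI : ∀ i, IsAffine ((D ⋙ Over.pullback g).obj i).left := fun i =>
      inferInstanceAs (IsAffine (pullback (D.obj i).hom g))
    haveI : IsAffine ((Over.pullback g).obj c.pt).left := inferInstanceAs (IsAffine (pullback c.pt.hom g))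
    have hgood : Good (rhom ((Over.pullback g).obj c.pt).hom).hom := by
      refine good_limit (D ⋙ Over.pullback g) ((Over.pullback g).mapCone c) hP fun i => ?_
      obtain ⟨W, i1, i2, φ, hφ, j, g', hg'⟩ := (h i).lift V g
      exact (good_iff _).2 ⟨W, i1, i2, φ, hφ, pullback.lift g' (Spec.map φ) hg', pullback.lift_snd _ _ _⟩
    obtain ⟨W, i1, i2, φ, hφ, g', hg'⟩ := (good_iff _).1 hgood
    refine ⟨W, i1, i2, φ, hφ, PUnit.unit, g' ≫ pullback.fst c.pt.hom g, ?_⟩
    show (g' ≫ pullback.fst c.pt.hom g) ≫ c.pt.hom = Spec.map φ ≫ g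
    rw [Category.assoc, pullback.condition, ← Category.assoc]
    exact congrArg (· ≫ g) hg'

end Groth.Agent.HTop28
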